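import Groth.Prelude.Def_SGA6
import Groth.Agent.Dcoh.DerPush2
import Groth.Agent.Sga67.K0Map
import Groth.Agent.Sga67.KTrBasic
import Groth.Agent.PerfA.PerfLocal
import Groth.Agent.PerfA.Devissage
import Groth.Agent.S0887

/-!
# Derived push-forward on `K₀` of perfect complexes

* `PushPerf f` : `Rf_*` carries perfect complexes to perfect complexes.
* `pushK f hf : Kperf X →+ Kperf Y`, `pushK_clTr`, `pushK_comp`, `pushK_congr`.
* `rho X : Kvb X →+ Kperf X`, `[E] ↦ [E[0]]`.
* `pushPerf_of_terms` : to check `PushPerf f` it suffices to treat `E[0]`, `E` finite locally free, when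
  every perfect complex on `X` is represented by a bounded complex of finite locally free modules.
-/

set_option autoImplicit false

universe u

open CategoryTheory CategoryTheory.Limits AlgebraicGeometry Pretriangulated

attribute [local instance] HasDerivedCategory.standard

namespace Groth.Agent.Krr.H467.DerPush

open Groth.Agent.Dcoh.DerSch Groth.Agent.Dcoh.DerPull Groth.Agent.PerfA.PerfLocal
open Groth.Agent.Sga67.KTrBasic

variable {X Y Z : Scheme.{u}}

attribute [local instance] hasRpush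

/-- `Rf_*` carries perfect complexes to perfect complexes. -/
def PushPerf (f : X ⟶ Y) : Prop :=
  ∀ K : DCoh.D X, DCoh.IsPerfect K → DCoh.IsPerfect ((DCoh.Rpush f).obj K)

/-- The homomorphism `Kperf X →+ Kperf Y` induced by `Rf_*`. -/
noncomputable def pushK (f : X ⟶ Y) (hf : PushPerf f) : SGA6.Kperf X →+ SGA6.Kperf Y :=
  letI := rpushCommShift f
  haveI := rpush_isTriangulated f
  SGA6.mapTr (DCoh.Rpush f) (SGA6.perfP X) (SGA6.perfP Y) hf

lemma pushK_clTr (f : X ⟶ Y) (hf : PushPerf f) {K : DCoh.D X} (hK : DCoh.IsPerfect K) :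
    pushK f hf (KZero.clTr (SGA6.perfP X) K) =
      KZero.clTr (SGA6.perfP Y) ((DCoh.Rpush f).obj K) := by
  letI := rpushCommShift f
  haveI := rpush_isTriangulated f
  exact Groth.Agent.Sga67.K0Map.mapTr_clTr (DCoh.Rpush f) (SGA6.perfP X) (SGA6.perfP Y) hf hK

/-- Classes of isomorphic objects agree. -/
lemma clTr_iso {K L : DCoh.D X} (e : K ≅ L) :
    KZero.clTr (SGA6.perfP X) K = KZero.clTr (SGA6.perfP X) L := by
  by_cases h : SGA6.perfP X K
  · exact clTr_iso' e h (isPerfect_of_iso e h) (isZero_zero _) (isPerfect_of_isZero (isZero_zero _))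
  · rw [clTr_of_not K h, clTr_of_not L (fun h' => h (isPerfect_of_iso e.symm h'))]

lemma PushPerf.comp {f : X ⟶ Y} {g : Y ⟶ Z} (hf : PushPerf f) (hg : PushPerf g) :
    PushPerf (f ≫ g) := fun K hK =>
  isPerfect_of_iso ((rpushComp f g).app K) (hg _ (hf _ hK))

lemma pushK_comp (f : X ⟶ Y) (g : Y ⟶ Z) (hf : PushPerf f) (hg : PushPerf g)
    (hfg : PushPerf (f ≫ g)) : pushK (f ≫ g) hfg = (pushK g hg).comp (pushK f hf) := by
  apply homTr_ext
  intro K hK
  rw [pushK_clTr _ _ hK, AddMonoidHom.comp_apply, pushK_clTr f hf hK, pushK_clTr g hg (hf K hK)]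
  exact clTr_iso ((rpushComp f g).symm.app K)

lemma pushK_congr {f g : X ⟶ Y} (h : f = g) (hf : PushPerf f) (hg : PushPerf g) :
    pushK f hf = pushK g hg := by
  subst h
  rfl

/-- `[E] ↦ [E[0]]`. -/
noncomputable def rho (X : Scheme.{u}) : SGA6.Kvb X →+ SGA6.Kperf X :=
  lift (fun E => KZero.clTr (SGA6.perfP X) (DCoh.inD X E)) (fun _ hS h₁ h₂ h₃ =>
    clTr_add (P := SGA6.perfP X) hS.singleTriangle hS.singleTriangle_distinguished
      (isPerfect_inD_of_isFinLocFree h₁) (isPerfect_inD_of_isFinLocFree h₂)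
      (isPerfect_inD_of_isFinLocFree h₃))

lemma rho_cl (E : X.Modules) (hE : FlatMod.IsFinLocFree E) :
    rho X (KZero.clSub (fun M : X.Modules => FlatMod.IsFinLocFree M) E) =
      KZero.clTr (SGA6.perfP X) (DCoh.inD X E) :=
  lift_clSub _ _ E hE

/-- The class of perfect complexes is closed under extensions. -/
lemma isPerfect_ext (T : Triangle (DCoh.D X)) (hT : T ∈ distTriang (DCoh.D X))
    (h₁ : DCoh.IsPerfect T.obj₁) (h₃ : DCoh.IsPerfect T.obj₃) : DCoh.IsPerfect T.obj₂ :=
  (Groth.Agent.S0887.result T hT).2.1 h₁ h₃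

/-- If every perfect complex on `X` is strictly perfect and `Rf_* (E[0])` is perfect for `E` finite
locally free, then `Rf_*` preserves perfect complexes. -/
lemma pushPerf_of_terms (f : X ⟶ Y)
    (hX : ∀ K : DCoh.D X, DCoh.IsPerfect K →
      ∃ E : CochainComplex X.Modules ℤ, DCoh.IsStrictlyPerfect E ∧ Nonempty (DCoh.toD X E ≅ K))
    (h : ∀ E : X.Modules, FlatMod.IsFinLocFree E →
      DCoh.IsPerfect ((DCoh.Rpush f).obj (DCoh.inD X E))) : PushPerf f := by
  intro K hK
  obtain ⟨E, ⟨⟨a, b, hab⟩, hE⟩, ⟨e⟩⟩ := hX K hK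
  letI := rpushCommShift f
  haveI := rpush_isTriangulated f
  have key : DCoh.IsPerfect ((DCoh.Rpush f).obj (DerivedCategory.Q.obj E)) := by
    refine Groth.Agent.PerfA.Devissage.devissage
      (fun K : DCoh.D X => DCoh.IsPerfect ((DCoh.Rpush f).obj K)) ?_ ?_ ?_ E a b hab ?_
    · intro A B e hA
      exact isPerfect_of_iso ((DCoh.Rpush f).mapIso e) hA
    · intro T hT h1 h3
      exact isPerfect_ext _ ((DCoh.Rpush f).map_distinguished T hT) h1 h3
    · intro A hA
      exact isPerfect_of_isZero ((DCoh.Rpush f).map_isZero hA)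
    · intro i _ _
      have h1 := isPerfect_shift (h (E.X i) (hE i)) (-i)
      refine isPerfect_of_iso ?_ h1
      exact ((DCoh.Rpush f).commShiftIso (-i)).symm.app _ ≪≫ (DCoh.Rpush f).mapIso
        (((DerivedCategory.singleFunctors X.Modules).shiftIso (-i) i 0 (by simp)).app (E.X i))
  exact isPerfect_of_iso ((DCoh.Rpush f).mapIso e) key

end Groth.Agent.Krr.H467.DerPush
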