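import Groth.Agent.Krr.H467.PushPr
import Groth.Agent.Krr.H499.RegTw
import Groth.Agent.Krr.H466.ClosedLF

/-!
# Push-forward of `K` along a composite `X ⟶ P^n_Y ⟶ Y` is the derived push-forward
-/

set_option autoImplicit false

universe w₁ w₂ v u

open CategoryTheory CategoryTheory.Limits AlgebraicGeometry Pretriangulated

attribute [local instance] HasDerivedCategory.standard

namespace Groth.Agent.Krr.H467.Comp

open Groth.Agent.Krr.H467.DerPush Groth.Agent.Krr.H467.PushCl Groth.Agent.Krr.H467.PushPr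

theorem isNoetherian_PY (n : ℕ) (Y : Scheme.{u}) [IsNoetherian Y] : IsNoetherian (KRR.PY n Y) := by
  have h1 := Groth.Agent.Krr.H464.SecReg.smooth_toBase n Y
  have h2 := Groth.Agent.Dix.ProjProper.isProper_toBase n Y
  have : IsLocallyNoetherian (KRR.PY n Y) := LocallyOfFiniteType.isLocallyNoetherian (KRR.pr n Y)
  have : CompactSpace (KRR.PY n Y) := QuasiCompact.compactSpace_of_compactSpace (KRR.pr n Y)
  exact {}

theorem isNoetherian_of_closed {X Y : Scheme.{u}} [IsNoetherian Y] (i : X ⟶ Y) [IsClosedImmersion i] :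
    IsNoetherian X := by
  have : IsLocallyNoetherian X := LocallyOfFiniteType.isLocallyNoetherian i
  have : CompactSpace X := QuasiCompact.compactSpace_of_compactSpace i
  exact {}

/-- **`p_K` is the derived push-forward.** -/
theorem rho_pushPr (n : ℕ) (Y : Scheme.{u}) [CompactSpace Y] (hp : PushPerf (KRR.pr n Y))
    {KP : Type w₁} {KY : Type w₂} [CommRing KP] [CommRing KY]
    (φP : SGA6.Kvb (KRR.PY n Y) →+ KP) (φY : SGA6.Kvb Y →+ KY) (hφ : Function.Bijective φY)
    (b : KP →+ KY) (hb : KRR.IsPushPr n Y φP φY b) (x : SGA6.Kvb (KRR.PY n Y)) :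
    rho Y (onVb φP φY hφ b x) = pushK (KRR.pr n Y) hp (rho (KRR.PY n Y) x) :=
  rho_pushPr_of n Y (fun m E hE =>
    Groth.Agent.Krr.H499.RegTw.isRegSheaf_twF_pull n E hE (m : ℤ) (Int.natCast_nonneg m)) hp φP φY hφ b hb x

/-- **`p_K ∘ i_K` is the derived push-forward along `i ≫ p`.** -/
theorem rho_push (n : ℕ) {X Y : Scheme.{u}} [IsNoetherian Y] (hY : KRR.HasEnoughLocFree (KRR.PY n Y))
    (i : X ⟶ KRR.PY n Y) (hi : Mor2.IsRegularClosedImmersion i) (f : X ⟶ Y)
    (hf : i ≫ KRR.pr n Y = f) (hpf : PushPerf f)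
    {KX : Type v} {KP : Type w₁} {KY : Type w₂} [CommRing KX] [CommRing KP] [CommRing KY]
    (φX : SGA6.Kvb X →+ KX) (φP : SGA6.Kvb (KRR.PY n Y) →+ KP) (φY : SGA6.Kvb Y →+ KY)
    (hφP : Function.Bijective φP) (hφY : Function.Bijective φY)
    (a : KX →+ KP) (ha : KRR.IsPushCl i φX φP a) (b : KP →+ KY) (hb : KRR.IsPushPr n Y φP φY b)
    (x : SGA6.Kvb X) :
    rho Y (onVb φX φY hφY (b.comp a) x) = pushK f hpf (rho X x) := by
  subst hf
  have := hi.1
  have hN := isNoetherian_PY n Y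
  have hX : IsNoetherian X := isNoetherian_of_closed i
  have hXe : KRR.HasEnoughLocFree X :=
    Groth.Agent.Krr.H466.ClosedLF.hasEnoughLocFree_of_closed i hY
  have hpi : PushPerf i := pushPerf_closed hXe hY i hi
  rw [onVb_comp (φY := φP) (hY := hφP), rho_pushPr n Y (pushPerf_pr n Y) φP φY hφY b hb,
    rho_pushCl hY i hi hpi φX φP hφP a ha, pushK_comp i (KRR.pr n Y) hpi (pushPerf_pr n Y) hpf]
  rfl

/-- `R(i ≫ p)_*` preserves perfect complexes. -/
theorem pushPerf_comp (n : ℕ) {X Y : Scheme.{u}} [IsNoetherian Y]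
    (hY : KRR.HasEnoughLocFree (KRR.PY n Y))
    (i : X ⟶ KRR.PY n Y) (hi : Mor2.IsRegularClosedImmersion i) (f : X ⟶ Y)
    (hf : i ≫ KRR.pr n Y = f) : PushPerf f := by
  subst hf
  have := hi.1
  have hN := isNoetherian_PY n Y
  have hX : IsNoetherian X := isNoetherian_of_closed i
  have hXe : KRR.HasEnoughLocFree X :=
    Groth.Agent.Krr.H466.ClosedLF.hasEnoughLocFree_of_closed i hY
  exact (pushPerf_closed hXe hY i hi).comp (pushPerf_pr n Y)

end Groth.Agent.Krr.H467.Comp
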