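import Groth.Agent.Krr.H467.Comp
import Groth.Agent.Krr.H499.PullTw

/-!
# Consequences of "`p_K ∘ i_K` is the derived push-forward"

* `push_independent` : `p_K ∘ i_K` only depends on `i ≫ p` (S3767).
* `pushCl_pushPr` : `i_K ∘ g_K = f_K ∘ j_K` for `P^n` over a regular closed immersion (S3766).
* `pushK_id`, `pushPr_pushCl_section` : `p_K ∘ s_K = id` for a section (S3765).
-/

set_option autoImplicit false

universe w₁ w₂ w₃ w₄ v u

open CategoryTheory CategoryTheory.Limits AlgebraicGeometry Pretriangulated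

attribute [local instance] HasDerivedCategory.standard

namespace Groth.Agent.Krr.H467.Cors

open Groth.Agent.Krr.H467.DerPush Groth.Agent.Krr.H467.PushCl Groth.Agent.Krr.H467.PushPr
open Groth.Agent.Krr.H467.Comp

/-- `p_K ∘ i_K` only depends on `i ≫ p`. -/
theorem push_independent (n m : ℕ) {X Y : Scheme.{u}} [IsNoetherian Y]
    (hYe : KRR.HasEnoughLocFree Y) (hn : KRR.HasEnoughLocFree (KRR.PY n Y))
    (hm : KRR.HasEnoughLocFree (KRR.PY m Y)) (f : X ⟶ Y)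
    (i₁ : X ⟶ KRR.PY n Y) (i₂ : X ⟶ KRR.PY m Y)
    (h₁ : Mor2.IsRegularClosedImmersion i₁) (h₂ : Mor2.IsRegularClosedImmersion i₂)
    (hf₁ : i₁ ≫ KRR.pr n Y = f) (hf₂ : i₂ ≫ KRR.pr m Y = f)
    {KX : Type v} {KY : Type w₂} {K₁ : Type w₁} {K₂ : Type w₃}
    [CommRing KX] [CommRing KY] [CommRing K₁] [CommRing K₂]
    (φX : SGA6.Kvb X →+ KX) (hφX : Function.Bijective φX)
    (φY : SGA6.Kvb Y →+ KY) (hφY : Function.Bijective φY)
    (φ₁ : SGA6.Kvb (KRR.PY n Y) →+ K₁) (hφ₁ : Function.Bijective φ₁)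
    (φ₂ : SGA6.Kvb (KRR.PY m Y) →+ K₂) (hφ₂ : Function.Bijective φ₂)
    (a₁ : KX →+ K₁) (ha₁ : KRR.IsPushCl i₁ φX φ₁ a₁) (b₁ : K₁ →+ KY) (hb₁ : KRR.IsPushPr n Y φ₁ φY b₁)
    (a₂ : KX →+ K₂) (ha₂ : KRR.IsPushCl i₂ φX φ₂ a₂) (b₂ : K₂ →+ KY) (hb₂ : KRR.IsPushPr m Y φ₂ φY b₂) :
    b₁.comp a₁ = b₂.comp a₂ := by
  have pf : PushPerf f := pushPerf_comp n hn i₁ h₁ f hf₁
  ext x
  obtain ⟨z, rfl⟩ := hφX.2 x
  rw [← apply_onVb (φX := φX) (φY := φY) (hY := hφY) (a := b₁.comp a₁),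
    ← apply_onVb (φX := φX) (φY := φY) (hY := hφY) (a := b₂.comp a₂)]
  congr 1
  apply rho_injective hYe
  rw [rho_push n hn i₁ h₁ f hf₁ pf φX φ₁ φY hφ₁ hφY a₁ ha₁ b₁ hb₁ z,
    rho_push m hm i₂ h₂ f hf₂ pf φX φ₂ φY hφ₂ hφY a₂ ha₂ b₂ hb₂ z]

/-- `R(𝟙)_*` is the identity on classes of bundles. -/
theorem pushK_id_rho (Y : Scheme.{u}) (hp : PushPerf (𝟙 Y)) (x : SGA6.Kvb Y) :
    pushK (𝟙 Y) hp (rho Y x) = rho Y x := by
  have := Groth.Agent.Dcoh.DerSch.hasRpush (𝟙 Y)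
  have h : (pushK (𝟙 Y) hp).comp (rho Y) = rho Y := by
    apply Groth.Agent.Sga67.KTrBasic.hom_ext
    intro F hF
    obtain ⟨e⟩ := Groth.Agent.PerfC.RpushCoh.nonempty_closed (𝟙 Y) F
    rw [AddMonoidHom.comp_apply, rho_cl F hF,
      pushK_clTr (𝟙 Y) hp (Groth.Agent.PerfA.PerfLocal.isPerfect_inD_of_isFinLocFree hF)]
    exact clTr_iso (e ≪≫ (DerivedCategory.singleFunctor Y.Modules 0).mapIso ((Scheme.Modules.pushforwardId Y).app F))
  exact DFunLike.congr_fun h x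

/-- `p_K ∘ s_K = id` for a section `s` of `P^n_Y`. -/
theorem pushPr_pushCl_section (n : ℕ) (Y : Scheme.{u}) [IsNoetherian Y]
    (hPe : KRR.HasEnoughLocFree (KRR.PY n Y)) (s : Y ⟶ KRR.PY n Y) (hs : s ≫ KRR.pr n Y = 𝟙 Y)
    (hreg : Mor2.IsRegularClosedImmersion s)
    {KY : Type w₂} {KP : Type w₁} [CommRing KY] [CommRing KP]
    (φP : SGA6.Kvb (KRR.PY n Y) →+ KP) (hφP : Function.Bijective φP)
    (φY : SGA6.Kvb Y →+ KY) (hφY : Function.Bijective φY)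
    (gs : KY →+ KP) (hgs : KRR.IsPushCl s φY φP gs) (gp : KP →+ KY)
    (hgp : KRR.IsPushPr n Y φP φY gp) : gp.comp gs = AddMonoidHom.id KY := by
  have := hreg.1
  have hYe : KRR.HasEnoughLocFree Y :=
    Groth.Agent.Krr.H466.ClosedLF.hasEnoughLocFree_of_closed s hPe
  have pf : PushPerf (𝟙 Y) := pushPerf_comp n hPe s hreg (𝟙 Y) hs
  ext x
  obtain ⟨z, rfl⟩ := hφY.2 x
  rw [← apply_onVb (φX := φY) (φY := φY) (hY := hφY) (a := gp.comp gs)]
  refine congrArg φY ?_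
  apply rho_injective hYe
  rw [rho_push n hPe s hreg (𝟙 Y) hs pf φY φP φY hφP hφY gs hgs gp hgp z, pushK_id_rho Y pf]

/-- `i_K ∘ g_K = f_K ∘ j_K`. -/
theorem pushCl_pushPr (n : ℕ) {X Y : Scheme.{u}} [IsNoetherian Y] (i : X ⟶ Y)
    (hi : Mor2.IsRegularClosedImmersion i)
    (hYe : KRR.HasEnoughLocFree Y) (hPe : KRR.HasEnoughLocFree (KRR.PY n Y))
    (hj : Mor2.IsRegularClosedImmersion (KRR.projSpaceMap n i))
    {KX : Type v} {KY : Type w₂} {KPX : Type w₁} {KPY : Type w₃}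
    [CommRing KX] [CommRing KY] [CommRing KPX] [CommRing KPY]
    (φX : SGA6.Kvb X →+ KX) (hφX : Function.Bijective φX)
    (φY : SGA6.Kvb Y →+ KY) (hφY : Function.Bijective φY)
    (φPX : SGA6.Kvb (KRR.PY n X) →+ KPX) (hφPX : Function.Bijective φPX)
    (φPY : SGA6.Kvb (KRR.PY n Y) →+ KPY) (hφPY : Function.Bijective φPY)
    (gi : KX →+ KY) (hgi : KRR.IsPushCl i φX φY gi)
    (gj : KPX →+ KPY) (hgj : KRR.IsPushCl (KRR.projSpaceMap n i) φPX φPY gj)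
    (gX : KPX →+ KX) (hgX : KRR.IsPushPr n X φPX φX gX)
    (gY : KPY →+ KY) (hgY : KRR.IsPushPr n Y φPY φY gY) :
    gi.comp gX = gY.comp gj := by
  have := hi.1
  have hX : IsNoetherian X := isNoetherian_of_closed i
  have hXe : KRR.HasEnoughLocFree X :=
    Groth.Agent.Krr.H466.ClosedLF.hasEnoughLocFree_of_closed i hYe
  have pi : PushPerf i := pushPerf_closed hXe hYe i hi
  have ppi : PushPerf (KRR.pr n X ≫ i) := (pushPerf_pr n X).comp pi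
  have psi : PushPerf (KRR.projSpaceMap n i ≫ KRR.pr n Y) :=
    pushPerf_comp n hPe (KRR.projSpaceMap n i) hj _ rfl
  ext x
  obtain ⟨z, rfl⟩ := hφPX.2 x
  rw [← apply_onVb (φX := φPX) (φY := φY) (hY := hφY) (a := gi.comp gX),
    ← apply_onVb (φX := φPX) (φY := φY) (hY := hφY) (a := gY.comp gj)]
  congr 1
  apply rho_injective hYe
  rw [rho_push n hPe (KRR.projSpaceMap n i) hj _ rfl psi φPX φPY φY hφPY hφY gj hgj gY hgY z,
    onVb_comp (φY := φX) (hY := hφX),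
    rho_pushCl hYe i hi pi φX φY hφY gi hgi,
    rho_pushPr n X (pushPerf_pr n X) φPX φX hφX gX hgX z,
    pushK_congr (Groth.Agent.Krr.H499.PullTw.projSpaceMap_pr n i) psi ppi,
    pushK_comp (KRR.pr n X) i (pushPerf_pr n X) pi ppi]
  rfl

end Groth.Agent.Krr.H467.Cors
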