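import Groth.Agent.Krr.H467.DerPush
import Groth.Agent.Krr.H447.Syz

/-!
# The class in `K₀(perf)` of a module with a finite locally free resolution

For a finite locally free resolution `L ⟶ M` of length `≤ n`: `M[0]` is perfect and its class is
`rho X (Σ_{k ≤ n} (-1)^k [L_k])`.
-/

set_option autoImplicit false

universe u

open CategoryTheory CategoryTheory.Limits AlgebraicGeometry Pretriangulated

attribute [local instance] HasDerivedCategory.standard

namespace Groth.Agent.Krr.H467.LFClass

open Groth.Agent.PerfA.PerfLocal Groth.Agent.Sga67.KTrBasic Groth.Agent.Krr.H467.DerPush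

variable {X : Scheme.{u}}

/-- The class of a module with a finite locally free resolution. -/
theorem isPerfect_and_clTr {M : X.Modules} {n : ℕ} {L : ChainComplex X.Modules ℕ}
    {π : L ⟶ (ChainComplex.single₀ X.Modules).obj M} (h : KRR.IsLFRes M n L π) :
    DCoh.IsPerfect (DCoh.inD X M) ∧
      KZero.clTr (SGA6.perfP X) (DCoh.inD X M) =
        rho X (∑ k ∈ Finset.range (n + 1), (-1 : ℤ) ^ k • KRR.cl X (L.X k)) := by
  refine Groth.Agent.Krr.H447.Syz.isLFRes_induction
    (fun M c => DCoh.IsPerfect (DCoh.inD X M) ∧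
      KZero.clTr (SGA6.perfP X) (DCoh.inD X M) = rho X c) ?_ ?_ ?_ h
  · rintro M N c e ⟨h1, h2⟩
    have e' := (DerivedCategory.singleFunctor X.Modules 0).mapIso e
    exact ⟨isPerfect_of_iso e' h1, (clTr_iso e').symm.trans h2⟩
  · intro M hM
    have h0 := (DerivedCategory.singleFunctor X.Modules 0).map_isZero hM
    exact ⟨isPerfect_of_isZero h0, by rw [clTr_isZero _ h0, map_zero]⟩
  · rintro S hS hE c ⟨h1, h2⟩
    have hE' := isPerfect_inD_of_isFinLocFree hE
    have h3 : DCoh.IsPerfect (DCoh.inD X S.X₃) :=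
      (Groth.Agent.S0887.result hS.singleTriangle hS.singleTriangle_distinguished).1 h1 hE'
    refine ⟨h3, ?_⟩
    have h4 : KZero.clTr (SGA6.perfP X) (DCoh.inD X S.X₂) =
        KZero.clTr (SGA6.perfP X) (DCoh.inD X S.X₁) + KZero.clTr (SGA6.perfP X) (DCoh.inD X S.X₃) :=
      clTr_add (P := SGA6.perfP X) hS.singleTriangle hS.singleTriangle_distinguished h1 hE' h3
    rw [map_sub, rho_cl _ hE, h4, ← h2]
    abel

theorem isPerfect_of_hasLFRes {M : X.Modules} (h : KRR.HasLFRes M) :
    DCoh.IsPerfect (DCoh.inD X M) := by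
  obtain ⟨n, L, π, h⟩ := h
  exact (isPerfect_and_clTr h).1

end Groth.Agent.Krr.H467.LFClass
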