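import Groth.Agent.Krr.H467.LFClass
import Groth.Agent.PerfC.RpushCoh
import Groth.Agent.Krr.H498.PushRes
import Groth.Agent.Krr.H473.QProj
import Groth.Agent.S1028
import Groth.Agent.S1036

/-!
# The push-forward along a closed immersion is the derived push-forward

* `onVb φX φY hY a : Kvb X →+ Kvb Y`, the transport of an additive map between models.
* `rho_pushCl` : `rho Y (i_K x) = pushK i (rho X x)`.
* `pushPerf_closed` : `Ri_*` preserves perfect complexes for a regular closed immersion `i`.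
* `rho_injective`.
-/

set_option autoImplicit false

universe w v u

open CategoryTheory CategoryTheory.Limits AlgebraicGeometry Pretriangulated

attribute [local instance] HasDerivedCategory.standard

namespace Groth.Agent.Krr.H467.PushCl

open Groth.Agent.Dcoh.DerSch Groth.Agent.PerfA.PerfLocal Groth.Agent.Sga67.KTrBasic
open Groth.Agent.Krr.H467.DerPush Groth.Agent.Krr.H467.LFClass

attribute [local instance] hasRpush

section OnVb

variable {X Y Z : Scheme.{u}} {KX : Type v} {KY : Type w} {KZ : Type*} [CommRing KX] [CommRing KY]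
  [CommRing KZ]

/-- An additive map between models, transported to `K₀` of bundles. -/
noncomputable def onVb (φX : SGA6.Kvb X →+ KX) (φY : SGA6.Kvb Y →+ KY) (hY : Function.Bijective φY)
    (a : KX →+ KY) : SGA6.Kvb X →+ SGA6.Kvb Y :=
  ((AddEquiv.ofBijective φY hY).symm : KY →+ SGA6.Kvb Y).comp (a.comp φX)

variable {φX : SGA6.Kvb X →+ KX} {φY : SGA6.Kvb Y →+ KY} {φZ : SGA6.Kvb Z →+ KZ}
  {hY : Function.Bijective φY} {hZ : Function.Bijective φZ} {a : KX →+ KY} {b : KY →+ KZ}

lemma apply_onVb (x : SGA6.Kvb X) : φY (onVb φX φY hY a x) = a (φX x) :=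
  (AddEquiv.ofBijective φY hY).apply_symm_apply (a (φX x))

lemma onVb_eq {x : SGA6.Kvb X} {y : SGA6.Kvb Y} (h : a (φX x) = φY y) : onVb φX φY hY a x = y := by
  apply hY.1
  rw [apply_onVb, h]

lemma onVb_comp (x : SGA6.Kvb X) :
    onVb φX φZ hZ (b.comp a) x = onVb φY φZ hZ b (onVb φX φY hY a x) := by
  apply onVb_eq
  rw [apply_onVb, apply_onVb]
  rfl

end OnVb

variable {X Y : Scheme.{u}}

/-- Strictly perfect representatives. -/
theorem exists_strictlyPerfect [IsNoetherian X] (hX : KRR.HasEnoughLocFree X) (K : DCoh.D X)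
    (hK : DCoh.IsPerfect K) :
    ∃ E : CochainComplex X.Modules ℤ, DCoh.IsStrictlyPerfect E ∧ Nonempty (DCoh.toD X E ≅ K) :=
  Groth.Agent.S1036.result X ((Groth.Agent.Krr.H473.QProj.hasEnoughLocFree_iff X).1 hX) K hK

/-- `[E] ↦ [E[0]]` is injective. -/
theorem rho_injective [IsNoetherian X] (hX : KRR.HasEnoughLocFree X) : Function.Injective (rho X) := by
  obtain ⟨φ, hφ⟩ := Groth.Agent.S1028.result X
    ((Groth.Agent.Krr.H473.QProj.hasEnoughLocFree_iff X).1 hX)
  have h : rho X = φ.toAddMonoidHom := by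
    apply Groth.Agent.Sga67.KTrBasic.hom_ext
    intro E hE
    rw [rho_cl E hE]
    exact (hφ E hE).symm
  rw [h]
  exact φ.injective

/-- `Ri_*` preserves perfect complexes. -/
theorem pushPerf_closed [IsNoetherian X] [IsNoetherian Y] (hX : KRR.HasEnoughLocFree X)
    (hY : KRR.HasEnoughLocFree Y) (i : X ⟶ Y) (hi : Mor2.IsRegularClosedImmersion i) :
    PushPerf i := by
  have := hi.1
  refine pushPerf_of_terms i (exists_strictlyPerfect hX) fun E hE => ?_
  obtain ⟨e⟩ := Groth.Agent.PerfC.RpushCoh.nonempty_closed i E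
  exact isPerfect_of_iso e.symm
    (isPerfect_of_hasLFRes (Groth.Agent.Krr.H498.PushRes.hasLFRes_pushforward hY i hi hE))

/-- **`i_K` is the derived push-forward.** -/
theorem rho_pushCl [IsNoetherian Y] (hY : KRR.HasEnoughLocFree Y)
    (i : X ⟶ Y) (hi : Mor2.IsRegularClosedImmersion i) (hp : PushPerf i)
    {KX : Type v} {KY : Type w} [CommRing KX] [CommRing KY]
    (φX : SGA6.Kvb X →+ KX) (φY : SGA6.Kvb Y →+ KY) (hφ : Function.Bijective φY)
    (a : KX →+ KY) (ha : KRR.IsPushCl i φX φY a) (x : SGA6.Kvb X) :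
    rho Y (onVb φX φY hφ a x) = pushK i hp (rho X x) := by
  have := hi.1
  have h : (rho Y).comp (onVb φX φY hφ a) = (pushK i hp).comp (rho X) := by
    apply Groth.Agent.Sga67.KTrBasic.hom_ext
    intro F hF
    obtain ⟨n, L, π, hL⟩ := Groth.Agent.Krr.H498.PushRes.hasLFRes_pushforward hY i hi hF
    have h1 := ha F hF n L π hL
    have h2 : onVb φX φY hφ a (KRR.cl X F) =
        ∑ k ∈ Finset.range (n + 1), (-1 : ℤ) ^ k • KRR.cl Y (L.X k) := by
      apply onVb_eq
      rw [h1, map_sum]
      exact Finset.sum_congr rfl fun k _ => by rw [map_zsmul]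
    obtain ⟨e⟩ := Groth.Agent.PerfC.RpushCoh.nonempty_closed i F
    rw [AddMonoidHom.comp_apply, AddMonoidHom.comp_apply, rho_cl F hF,
      pushK_clTr i hp (isPerfect_inD_of_isFinLocFree hF)]
    refine (congrArg (rho Y) h2).trans ((isPerfect_and_clTr hL).2.symm.trans ?_)
    exact (clTr_iso e).symm
  exact DFunLike.congr_fun h x

end Groth.Agent.Krr.H467.PushCl
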