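import Groth.Agent.Krr.H467.PushCl
import Groth.Agent.Krr.H499.Gen
import Groth.Agent.Krr.H464.SecReg
import Groth.Agent.PerfB.FibreZero
import Groth.Agent.S1002
import Groth.Agent.Dix.ProjProper
import Groth.Agent.Sga67.PushTwist
import Groth.Agent.Ega4B.RpushCompare
import Groth.Agent.Krr.H455.RelCast

/-!
# The push-forward along `P^n_Y ⟶ Y` is the derived push-forward
-/

set_option autoImplicit false

universe w v u

open CategoryTheory CategoryTheory.Limits AlgebraicGeometry Pretriangulated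

attribute [local instance] HasDerivedCategory.standard

namespace Groth.Agent.Krr.H467.PushPr

open Groth.Agent.Dcoh.DerSch Groth.Agent.PerfA.PerfLocal Groth.Agent.Sga67.KTrBasic
open Groth.Agent.Krr.H467.DerPush Groth.Agent.Krr.H467.LFClass Groth.Agent.Krr.H467.PushCl

attribute [local instance] hasRpush

/-- `Rp_*` preserves perfect complexes, `p : P^n_Y ⟶ Y`. -/
theorem pushPerf_pr (n : ℕ) (Y : Scheme.{u}) : PushPerf (KRR.pr n Y) := by
  intro K hK
  have h1 := Groth.Agent.Krr.H464.SecReg.smooth_toBase n Y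
  have h2 := Groth.Agent.Dix.ProjProper.isProper_toBase n Y
  have h3 : Flat (KRR.pr n Y) := Groth.Agent.Krr.H499.Gen.flat_pr n Y
  have h4 : LocallyOfFinitePresentation (KRR.pr n Y) := inferInstance
  exact Groth.Agent.S1002.result (KRR.pr n Y) K hK

/-- For a regular sheaf `F` on `P^n_Y`, `Rp_* (F[0]) = (p_* F)[0]`. -/
theorem nonempty_Rpush_of_isRegSheaf (n : ℕ) (Y : Scheme.{u}) (F : (KRR.PY n Y).Modules)
    (hF : KRR.IsRegSheaf n Y F) :
    Nonempty ((DCoh.Rpush (KRR.pr n Y)).obj (DCoh.inD _ F) ≅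
      DCoh.inD Y ((Scheme.Modules.pushforward (KRR.pr n Y)).obj F)) := by
  have := hasInjectiveResolutions (KRR.PY n Y)
  refine Groth.Agent.PerfB.FibreZero.nonempty_Rpush_inD (KRR.pr n Y) F fun i hi => ?_
  rw [Groth.Agent.Ega4B.RpushCompare.isZero_rpush_iff]
  exact Groth.Agent.Krr.H455.RelCast.van_self_of_reg (f := KRR.pr n Y) (F := F) hF i hi

/-- **`p_K` is the derived push-forward**, given that the bundles `O(m) ⊗ p^* E` are regular. -/
theorem rho_pushPr_of (n : ℕ) (Y : Scheme.{u}) [CompactSpace Y]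
    (hreg : ∀ (m : ℕ) (E : Y.Modules), FlatMod.IsFinLocFree E →
      KRR.IsRegSheaf n Y (KRR.twF n Y (m : ℤ) ((Scheme.Modules.pullback (KRR.pr n Y)).obj E)))
    (hp : PushPerf (KRR.pr n Y))
    {KP : Type v} {KY : Type w} [CommRing KP] [CommRing KY]
    (φP : SGA6.Kvb (KRR.PY n Y) →+ KP) (φY : SGA6.Kvb Y →+ KY) (hφ : Function.Bijective φY)
    (b : KP →+ KY) (hb : KRR.IsPushPr n Y φP φY b) (x : SGA6.Kvb (KRR.PY n Y)) :
    rho Y (onVb φP φY hφ b x) = pushK (KRR.pr n Y) hp (rho (KRR.PY n Y) x) := by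
  have h : (rho Y).comp (onVb φP φY hφ b) = (pushK (KRR.pr n Y) hp).comp (rho (KRR.PY n Y)) := by
    refine Groth.Agent.Krr.H499.Gen.hom_ext n Y (fun m _ E hE => ?_)
    set F := KRR.twF n Y (m : ℤ) ((Scheme.Modules.pullback (KRR.pr n Y)).obj E) with hF
    have hF1 : FlatMod.IsFinLocFree F := Groth.Agent.Sga67.TwistOver.isFinLocFree_tw n Y m _
      (Groth.Agent.PerfB.FlatPull.isFinLocFree_pullback _ hE)
    have hF2 : KRR.IsRegSheaf n Y F := hreg m E hE
    have hF3 : FlatMod.IsFinLocFree ((Scheme.Modules.pushforward (KRR.pr n Y)).obj F) :=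
      Groth.Agent.Sga67.PushTwist.isFinLocFree_push_tw_pull n Y m hE
    have h2 : onVb φP φY hφ b (KRR.cl _ F) =
        KRR.cl Y ((Scheme.Modules.pushforward (KRR.pr n Y)).obj F) := onVb_eq (hb F hF1 hF2)
    obtain ⟨e⟩ := nonempty_Rpush_of_isRegSheaf n Y F hF2
    rw [AddMonoidHom.comp_apply, AddMonoidHom.comp_apply, h2, rho_cl _ hF3, rho_cl _ hF1,
      pushK_clTr _ hp (isPerfect_inD_of_isFinLocFree hF1)]
    exact (clTr_iso e).symm
  exact DFunLike.congr_fun h x

end Groth.Agent.Krr.H467.PushPr
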